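import Groth.Agent.S6278
import Groth.Agent.S6279
import Groth.Agent.GeomRedFibLib.GeomField
import Groth.Agent.Unram17Lib.SmoothNormal

/-! The integral closure of a Dedekind domain in a finite etale algebra over its fraction field. -/

set_option autoImplicit false
universe u

open scoped nonZeroDivisors

namespace FinEtNeronLib

/-- A tuple of integral elements is integral. -/
theorem isIntegral_of_forall {R : Type u} [CommRing R] {ι : Type u} [Finite ι] {F : ι → Type u} [∀ i, CommRing (F i)]
    [∀ i, Algebra R (F i)] (y : ∀ i, F i) (h : ∀ i, IsIntegral R (y i)) : IsIntegral R y := by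
  classical
  have := Fintype.ofFinite ι
  choose p hp hp0 using h
  refine ⟨∏ i, p i, Polynomial.monic_prod_of_monic _ _ fun i _ => hp i, funext fun j => ?_⟩
  have h1 := Polynomial.hom_eval₂ (∏ i, p i) (algebraMap R (∀ i, F i)) (Pi.evalRingHom F j) y
  refine h1.trans ?_
  rw [Polynomial.eval₂_finsetProd]
  exact Finset.prod_eq_zero (Finset.mem_univ j) (hp0 j)

variable (R : Type u) [CommRing R] (L : Type u) [CommRing L] [Algebra R L]

/-- The map from the integral closure in a product of fields to the product of integral closures. -/
theorem exists_equiv_pi {ι : Type u} [Finite ι] (F : ι → Type u) [∀ i, CommRing (F i)] [∀ i, Algebra R (F i)]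
    (e : L ≃ₐ[R] ∀ i, F i) : Nonempty (integralClosure R L ≃ₐ[R] ∀ i, integralClosure R (F i)) := by
  let f : integralClosure R L →ₐ[R] ∀ i, integralClosure R (F i) :=
    { toFun := fun b i => ⟨e b.1 i, (b.2.map e.toAlgHom).map (Pi.evalAlgHom R F i)⟩
      map_one' := funext fun i => Subtype.ext (by simp)
      map_mul' := fun a b => funext fun i => Subtype.ext (by simp)
      map_zero' := funext fun i => Subtype.ext (by simp)
      map_add' := fun a b => funext fun i => Subtype.ext (by simp)
      commutes' := fun r => funext fun i => Subtype.ext (by simp) }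
  refine ⟨AlgEquiv.ofBijective f ⟨fun a b hab => Subtype.ext (e.injective (funext fun i =>
    congrArg Subtype.val (congrFun hab i))), fun y => ?_⟩⟩
  have hy : IsIntegral R (fun i => (y i).1) := isIntegral_of_forall _ fun i => (y i).2
  exact ⟨⟨e.symm fun i => (y i).1, hy.map e.symm.toAlgHom⟩, funext fun i => Subtype.ext (by simp [f])⟩

variable [IsDomain R] [IsDedekindDomain R] [Algebra (FractionRing R) L] [IsScalarTower R (FractionRing R) L]
  [Algebra.Etale (FractionRing R) L] [Module.Finite (FractionRing R) L]

/-- The integral closure is finite and normal. -/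
theorem finite_and_normal : Module.Finite R (integralClosure R L) ∧ EGA4.IsNormalRing (integralClosure R L) := by
  haveI : IsArtinianRing L := IsArtinianRing.of_finite (FractionRing R) L
  haveI : IsReduced L := Algebra.FormallyUnramified.isReduced_of_field (FractionRing R) L
  let F : MaximalSpectrum L → Type u := fun I => L ⧸ I.asIdeal
  letI : ∀ I, Field (F I) := fun I => Ideal.Quotient.field I.asIdeal
  haveI : ∀ I : MaximalSpectrum L, Algebra.IsSeparable (FractionRing R) (F I) := fun I => by
    haveI : Algebra.FormallyUnramified (FractionRing R) (L ⧸ I.asIdeal) :=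
      Algebra.FormallyUnramified.of_surjective (Ideal.Quotient.mkₐ (FractionRing R) I.asIdeal) Ideal.Quotient.mk_surjective
    exact Algebra.FormallyUnramified.isSeparable (FractionRing R) (F I)
  obtain ⟨e⟩ := exists_equiv_pi R L F ((IsArtinianRing.equivPi L).restrictScalars R)
  haveI : ∀ I, Module.Finite R (integralClosure R (F I)) := fun I =>
    IsIntegralClosure.finite R (FractionRing R) (F I) (integralClosure R (F I))
  refine ⟨Module.Finite.equiv e.symm.toLinearEquiv, ?_⟩
  refine GeomRedFibLib.isNormalRing_of_ringEquiv _ _ e.symm.toRingEquiv (Groth.Agent.S6279.result _ fun I => ?_)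
  haveI : IsIntegrallyClosed (integralClosure R (F I)) :=
    integralClosure.isIntegrallyClosedOfFiniteExtension (FractionRing R)
  exact Unram17Lib.isNormalRing_of_domain _

/-- The algebra is the generic localization of the integral closure. -/
theorem isLocalization : IsLocalization (Algebra.algebraMapSubmonoid (integralClosure R L) R⁰) L := by
  have hu : ∀ r : R⁰, IsUnit (algebraMap R L r) := fun r => by
    rw [IsScalarTower.algebraMap_apply R (FractionRing R) L]
    exact (IsLocalization.map_units (FractionRing R) r).map _
  refine ⟨fun ⟨_, r, hr, rfl⟩ => ?_, fun z => ?_, fun {a b} h => ⟨1, by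
    rw [show a = b from Subtype.ext h]⟩⟩
  · exact hu ⟨r, hr⟩
  · obtain ⟨m, hm⟩ := (Algebra.IsIntegral.isIntegral (R := FractionRing R) z).exists_multiple_integral_of_isLocalization R⁰ z
    refine ⟨⟨⟨m • z, hm⟩, ⟨algebraMap R _ m, m, m.2, rfl⟩⟩, ?_⟩
    show z * algebraMap R L m = m • z
    rw [Submonoid.smul_def, Algebra.smul_def, mul_comm]

omit [Algebra.Etale (FractionRing R) L] [Module.Finite (FractionRing R) L]
  [Algebra (FractionRing R) L] [IsScalarTower R (FractionRing R) L] in
/-- A generic map from `L` to a normal flat algebra is defined on the integral closure. -/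
theorem exists_extend (A : Type u) [CommRing A] [Algebra R A] [Module.Flat R A] (hA : EGA4.IsNormalRing A)
    (AK : Type u) [CommRing AK] [Algebra A AK] [Algebra R AK] [IsScalarTower R A AK]
    [IsLocalization (Algebra.algebraMapSubmonoid A R⁰) AK] (φ : L →ₐ[R] AK) :
    ∃ g : integralClosure R L →ₐ[R] A, ∀ b, algebraMap A AK (g b) = φ b.1 := by
  have hM : Algebra.algebraMapSubmonoid A R⁰ ≤ A⁰ := by
    rintro _ ⟨r, hr, rfl⟩
    have h : IsSMulRegular A r := Module.Flat.isSMulRegular_of_nonZeroDivisors hr
    refine mem_nonZeroDivisors_iff_right.2 fun x hx => h ?_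
    simp only [Algebra.smul_def, mul_zero]
    rwa [mul_comm]
  have hunit : ∀ y : Algebra.algebraMapSubmonoid A R⁰, IsUnit (algebraMap A (FractionRing A) y) := fun y =>
    IsLocalization.map_units (FractionRing A) (⟨y, hM y.2⟩ : A⁰)
  let ι : AK →+* FractionRing A := IsLocalization.lift (S := AK) hunit
  have hι : ∀ a, ι (algebraMap A AK a) = algebraMap A (FractionRing A) a := fun a => IsLocalization.lift_eq hunit a
  have hιinj : Function.Injective ι := (IsLocalization.lift_injective_iff hunit).2 fun x y =>
    ⟨fun h => congrArg _ (IsLocalization.injective AK hM h), fun h => congrArg _ (IsFractionRing.injective A (FractionRing A) h)⟩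
  haveI : IsIntegrallyClosedIn A (FractionRing A) := Groth.Agent.S6278.result A hA
  have hinj : Function.Injective (algebraMap A AK) := IsLocalization.injective AK hM
  have key : ∀ b : integralClosure R L, ∃ a : A, algebraMap A AK a = φ b.1 := fun b => by
    have h1 : IsIntegral A (φ b.1) := (b.2.map φ).tower_top
    have h2 : IsIntegral A (ι (φ b.1)) := h1.map_of_comp_eq (RingHom.id A) ι (RingHom.ext fun a => by simp [hι])
    obtain ⟨a, ha⟩ := IsIntegrallyClosedIn.algebraMap_eq_of_integral h2
    exact ⟨a, hιinj (by rw [hι, ha])⟩
  choose g hg using key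
  refine ⟨{ toFun := g, map_one' := hinj (by simp [hg]), map_mul' := fun a b => hinj (by simp [hg]),
            map_zero' := hinj (by simp [hg]), map_add' := fun a b => hinj (by simp [hg]),
            commutes' := fun r => hinj (by
              rw [hg, ← IsScalarTower.algebraMap_apply]
              exact φ.commutes r) }, hg⟩

end FinEtNeronLib
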