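import Groth.Agent.FinEtNeronLib.Algebra
import Groth.Agent.S13432
import Groth.Agent.TorsExtLib.Neron
import Groth.Agent.S4997
import Groth.Agent.UOpenLib.Criterion

/-! The Néron model of a finite etale scheme over the fraction field of a Dedekind domain. -/

set_option autoImplicit false
set_option backward.isDefEq.respectTransparency false
universe u

open CategoryTheory CategoryTheory.Limits AlgebraicGeometry
open scoped nonZeroDivisors

noncomputable section

namespace FinEtNeronLib

/-- The spectrum of a normal ring is a normal scheme. -/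
theorem isNormalScheme_spec (A : Type u) [CommRing A] (hA : EGA4.IsNormalRing A) :
    Pi1.IsNormalScheme (Spec (CommRingCat.of A)) := fun y => by
  let S := (Spec (CommRingCat.of A)).presheaf.stalk y
  letI : Algebra A S := inferInstanceAs (Algebra A (((Spec.structureSheaf A).presheaf).stalk y))
  haveI : IsLocalization.AtPrime S y.asIdeal := StructureSheaf.IsLocalization.to_stalk A y
  exact (Unram17Lib.normal_congr (IsLocalization.algEquiv y.asIdeal.primeCompl
    (Localization.AtPrime y.asIdeal) S).toRingEquiv).1 (hA y.asIdeal)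

/-- The ring of an affine normal scheme is normal. -/
theorem isNormalRing_of_spec (A : Type u) [CommRing A] (hA : Pi1.IsNormalScheme (Spec (CommRingCat.of A))) :
    EGA4.IsNormalRing A := fun p hp => by
  let y : Spec (CommRingCat.of A) := (⟨p, hp⟩ : PrimeSpectrum A)
  let S := (Spec (CommRingCat.of A)).presheaf.stalk y
  letI : Algebra A S := inferInstanceAs (Algebra A (((Spec.structureSheaf A).presheaf).stalk y))
  haveI : IsLocalization.AtPrime S p := StructureSheaf.IsLocalization.to_stalk A ⟨p, hp⟩
  exact (Unram17Lib.normal_congr (IsLocalization.algEquiv p.primeCompl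
    (Localization.AtPrime p) S).toRingEquiv).2 (hA y)

variable (R : Type u) [CommRing R] [IsDedekindDomain R] (L : Type u) [CommRing L] [Algebra R L]
  [Algebra (FractionRing R) L] [IsScalarTower R (FractionRing R) L]
  [Algebra.Etale (FractionRing R) L] [Module.Finite (FractionRing R) L]

local notation "K" => FractionRing R

/-- The normalization of the base in `L`. -/
abbrev B : Type u := integralClosure R L

/-- Its structure map. -/
abbrev str : Spec (CommRingCat.of (B R L)) ⟶ Spec (CommRingCat.of R) :=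
  Spec.map (CommRingCat.ofHom (algebraMap R (B R L)))

/-- The map from the generic fibre. -/
abbrev gen : Spec (CommRingCat.of L) ⟶ Spec (CommRingCat.of (B R L)) :=
  Spec.map (CommRingCat.ofHom (algebraMap (B R L) L))

/-- The structure map of the generic fibre. -/
abbrev strK : Spec (CommRingCat.of L) ⟶ Spec (CommRingCat.of K) :=
  Spec.map (CommRingCat.ofHom (algebraMap K L))

/-- The generic fibre of the normalization. -/
theorem isPullback_gen : IsPullback (gen R L) (strK R L) (str R L) (Neron.genPt R) := by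
  haveI := isLocalization R L
  haveI : Algebra.IsPushout R (B R L) K L := Algebra.isPushout_of_isLocalization R⁰ _ _ _
  exact isPullback_SpecMap_of_isPushout _ _ _ _ (CommRingCat.isPushout_of_isPushout R (B R L) K L)

omit [IsDedekindDomain R] in
/-- Formal smoothness descends along a localization to a finer localization. -/
theorem formallySmooth_of_le (C E F : Type u) [CommRing C] [CommRing E] [CommRing F] [Algebra R C] [Algebra R E]
    [Algebra R F] [Algebra C E] [Algebra C F] [IsScalarTower R C E] [IsScalarTower R C F] (M : Submonoid C)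
    [IsLocalization M E] (M' : Submonoid C) [IsLocalization M' F] (hu : ∀ m : M, IsUnit (algebraMap C F m))
    [Algebra.FormallySmooth R E] : Algebra.FormallySmooth R F := by
  letI : Algebra E F := (IsLocalization.lift (S := E) hu).toAlgebra
  haveI : IsScalarTower C E F := IsScalarTower.of_algebraMap_eq fun b => (IsLocalization.lift_eq hu b).symm
  haveI : IsScalarTower R E F := IsScalarTower.of_algebraMap_eq fun r => by
    rw [IsScalarTower.algebraMap_apply R C E, IsScalarTower.algebraMap_apply R C F,
      ← IsScalarTower.algebraMap_apply C E F]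
  haveI : Algebra.FormallyEtale C E := Algebra.FormallyEtale.of_isLocalization M
  haveI : Algebra.FormallyEtale C F := Algebra.FormallyEtale.of_isLocalization M'
  haveI : Algebra.FormallyEtale E F := Algebra.FormallyEtale.of_restrictScalars (R := C)
  exact Algebra.FormallySmooth.comp R E F

/-- The points of the generic fibre are smooth points. -/
theorem gen_mem_smoothLocus [LocallyOfFinitePresentation (str R L)] (y : Spec (CommRingCat.of L)) :
    gen R L y ∈ (str R L).smoothLocus := by
  haveI := isLocalization R L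
  let q : Ideal (B R L) := (gen R L y).asIdeal
  let p : Ideal R := q.comap (algebraMap R (B R L))
  let Bq := Localization.AtPrime q
  haveI : Algebra.FormallySmooth R K := Algebra.FormallySmooth.of_isLocalization R⁰
  haveI : Algebra.FormallySmooth R L := Algebra.FormallySmooth.comp R K L
  haveI : Algebra.FormallySmooth R Bq :=
    formallySmooth_of_le R (B R L) L Bq (Algebra.algebraMapSubmonoid (B R L) R⁰) q.primeCompl fun m =>
      IsLocalization.map_units Bq (⟨(m : B R L), fun hm => y.isPrime.ne_top
        (Ideal.eq_top_of_isUnit_mem _ hm (IsLocalization.map_units L m))⟩ : q.primeCompl)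
  let Ap := Localization.AtPrime p
  letI : Algebra Ap Bq := (Localization.localRingHom p q (algebraMap R (B R L)) rfl).toAlgebra
  haveI : IsScalarTower R Ap Bq := IsScalarTower.of_algebraMap_eq fun a => by
    rw [IsScalarTower.algebraMap_apply R (B R L) Bq]
    exact (Localization.localRingHom_to_map p q _ rfl a).symm
  haveI hfs : Algebra.FormallySmooth Ap Bq := Algebra.FormallySmooth.localization_base p.primeCompl
  rw [Scheme.Hom.mem_smoothLocus]
  exact (RingHom.FormallySmooth.respectsIso.arrow_mk_iso_iff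
    (Scheme.arrowStalkMapSpecIso (CommRingCat.ofHom (algebraMap R (B R L))) (gen R L y))).2 hfs

/-- A generic morphism from a normal flat affine scheme to the normalization extends. -/
theorem exists_extend_affine (A : CommRingCat.{u}) (ρ : Spec A ⟶ Spec (CommRingCat.of R)) [Flat ρ]
    (hA : Pi1.IsNormalScheme (Spec A)) (ψ : pullback ρ (Neron.genPt R) ⟶ Spec (CommRingCat.of (B R L)))
    (hψ : ψ ≫ str R L = pullback.fst ρ (Neron.genPt R) ≫ ρ) :
    ∃ g : Spec A ⟶ Spec (CommRingCat.of (B R L)), g ≫ str R L = ρ ∧ pullback.fst ρ (Neron.genPt R) ≫ g = ψ := by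
  letI : Algebra R A := (Spec.preimage ρ).hom.toAlgebra
  have hρ : ρ = Spec.map (CommRingCat.ofHom (algebraMap R A)) := (Spec.map_preimage ρ).symm
  haveI : Module.Flat R A := by
    have h : Flat (Spec.map (CommRingCat.ofHom (algebraMap R A))) := hρ ▸ inferInstance
    exact RingHom.flat_algebraMap_iff.1 ((HasRingHomProperty.Spec_iff (P := @Flat)).1 h)
  let AK := Localization (Algebra.algebraMapSubmonoid A R⁰)
  have hu : ∀ r : R⁰, IsUnit (algebraMap R AK r) := fun r => by
    rw [IsScalarTower.algebraMap_apply R A AK]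
    exact IsLocalization.map_units AK (⟨algebraMap R A r, r, r.2, rfl⟩ : Algebra.algebraMapSubmonoid A R⁰)
  letI : Algebra K AK := (IsLocalization.lift (S := K) hu).toAlgebra
  haveI : IsScalarTower R K AK := IsScalarTower.of_algebraMap_eq fun r => (IsLocalization.lift_eq hu r).symm
  haveI : Algebra.IsPushout R A K AK := Algebra.isPushout_of_isLocalization R⁰ _ _ _
  have sq : IsPullback (Spec.map (CommRingCat.ofHom (algebraMap A AK))) (Spec.map (CommRingCat.ofHom (algebraMap K AK)))
      ρ (Neron.genPt R) := by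
    rw [hρ]
    exact isPullback_SpecMap_of_isPushout _ _ _ _ (CommRingCat.isPushout_of_isPushout R A K AK)
  let h : Spec (CommRingCat.of AK) ⟶ Spec (CommRingCat.of (B R L)) := sq.isoPullback.hom ≫ ψ
  have hh : h ≫ str R L = Spec.map (CommRingCat.ofHom (algebraMap K AK)) ≫ Neron.genPt R := by
    rw [Category.assoc, hψ, sq.isoPullback_hom_fst_assoc]
    exact sq.w
  let l := (isPullback_gen R L).lift h _ hh
  let φ := Spec.preimage l
  have hφR : ∀ r : R, φ.hom (algebraMap R L r) = algebraMap R AK r := fun r => by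
    have e1 : φ.hom.comp (algebraMap K L) = algebraMap K AK := by
      have : Spec.map φ ≫ strK R L = Spec.map (CommRingCat.ofHom (algebraMap K AK)) := by
        rw [Spec.map_preimage]; exact (isPullback_gen R L).lift_snd _ _ _
      exact congrArg CommRingCat.Hom.hom (Spec.map_injective ((Spec.map_comp _ _).trans this))
    rw [IsScalarTower.algebraMap_apply R K L, ← RingHom.comp_apply, e1, ← IsScalarTower.algebraMap_apply]
  obtain ⟨g, hg⟩ := exists_extend R L A (isNormalRing_of_spec A hA) AK { φ.hom with commutes' := hφR }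
  refine ⟨Spec.map (CommRingCat.ofHom g.toRingHom), ?_, ?_⟩
  · rw [hρ, ← Spec.map_comp]
    congr 1
    exact CommRingCat.hom_ext g.comp_algebraMap
  · rw [← cancel_epi sq.isoPullback.hom, ← Category.assoc, sq.isoPullback_hom_fst]
    show _ = h
    rw [show h = Spec.map φ ≫ gen R L by rw [Spec.map_preimage]; exact ((isPullback_gen R L).lift_fst _ _ _).symm,
      ← Spec.map_comp, ← Spec.map_comp]
    congr 1
    exact CommRingCat.hom_ext (RingHom.ext fun b => hg b)

/-- Morphisms from a flat scheme to a separated scheme are determined on the generic fibre. -/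
theorem hom_ext_genPt {P Y : Scheme.{u}} (p : P ⟶ Spec (CommRingCat.of R)) [Flat p]
    (q : Y ⟶ Spec (CommRingCat.of R)) [IsSeparated q] (g₁ g₂ : P ⟶ Y) (h₁ : g₁ ≫ q = p) (h₂ : g₂ ≫ q = p)
    (h : pullback.fst p (Neron.genPt R) ≫ g₁ = pullback.fst p (Neron.genPt R) ≫ g₂) : g₁ = g₂ := by
  haveI : Flat (Over.mk p).hom := ‹Flat p›
  haveI : IsSeparated (Over.mk q).hom := ‹IsSeparated q›
  exact congrArg CommaMorphism.left (TorsExtLib.hom_ext_generic
    (f := (Over.homMk g₁ h₁ : Over.mk p ⟶ Over.mk q)) (g := Over.homMk g₂ h₂) (Over.OverMorphism.ext h))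

/-- The generic morphism extends to the normalization. -/
theorem exists_extend_scheme {Z : Scheme.{u}} (p : Z ⟶ Spec (CommRingCat.of R)) [Smooth p]
    (ψ : pullback p (Neron.genPt R) ⟶ Spec (CommRingCat.of (B R L)))
    (hψ : ψ ≫ str R L = pullback.fst p (Neron.genPt R) ≫ p) :
    ∃ g : Z ⟶ Spec (CommRingCat.of (B R L)), g ≫ str R L = p ∧ pullback.fst p (Neron.genPt R) ≫ g = ψ := by
  let j := Neron.genPt R
  let 𝒰 := Z.affineOpenCover.openCover
  let m : ∀ i, pullback (𝒰.f i ≫ p) j ⟶ pullback p j := fun i =>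
    pullback.map (𝒰.f i ≫ p) j p j (𝒰.f i) (𝟙 _) (𝟙 _) (by simp) (by simp)
  have hm : ∀ i, m i ≫ pullback.fst p j = pullback.fst (𝒰.f i ≫ p) j ≫ 𝒰.f i := fun i => pullback.lift_fst _ _ _
  have hSn : Pi1.IsNormalScheme (Spec (CommRingCat.of R)) := isNormalScheme_spec R (Unram17Lib.isNormalRing_of_domain R)
  have hZn : ∀ i, Pi1.IsNormalScheme (𝒰.X i) := fun i z => by
    refine (Unram17Lib.normal_stalk_iff_of_smooth (𝒰.f i ≫ p) (x := z) ?_).2 (hSn _)
    rw [Scheme.Hom.smoothLocus_eq_top]; trivial
  have key : ∀ i, ∃ g : 𝒰.X i ⟶ Spec (CommRingCat.of (B R L)), g ≫ str R L = 𝒰.f i ≫ p ∧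
      pullback.fst (𝒰.f i ≫ p) j ≫ g = m i ≫ ψ := fun i => by
    haveI : Flat (𝒰.f i ≫ p) := inferInstance
    exact exists_extend_affine R L (Z.affineOpenCover.X i) (𝒰.f i ≫ p) (hZn i) (m i ≫ ψ)
      (by rw [Category.assoc, hψ, reassoc_of% (hm i)])
  choose g hg hgen using key
  have hc : ∀ i k, pullback.fst (𝒰.f i) (𝒰.f k) ≫ g i = pullback.snd (𝒰.f i) (𝒰.f k) ≫ g k := fun i k => by
    let P := pullback (𝒰.f i) (𝒰.f k)
    let pP := pullback.fst (𝒰.f i) (𝒰.f k) ≫ 𝒰.f i ≫ p
    haveI : Flat pP := inferInstance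
    refine hom_ext_genPt R pP (str R L) _ _ (by rw [Category.assoc, hg]) (by
      rw [Category.assoc, hg, ← pullback.condition_assoc]) ?_
    let a : pullback pP j ⟶ pullback (𝒰.f i ≫ p) j :=
      pullback.map pP j _ j (pullback.fst (𝒰.f i) (𝒰.f k)) (𝟙 _) (𝟙 _) (by simp [pP]) (by simp)
    let b : pullback pP j ⟶ pullback (𝒰.f k ≫ p) j :=
      pullback.map pP j _ j (pullback.snd (𝒰.f i) (𝒰.f k)) (𝟙 _) (𝟙 _) (by simp [pP, pullback.condition_assoc]) (by simp)
    have ha : a ≫ pullback.fst (𝒰.f i ≫ p) j = pullback.fst pP j ≫ pullback.fst (𝒰.f i) (𝒰.f k) := pullback.lift_fst _ _ _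
    have hb : b ≫ pullback.fst (𝒰.f k ≫ p) j = pullback.fst pP j ≫ pullback.snd (𝒰.f i) (𝒰.f k) := pullback.lift_fst _ _ _
    rw [← Category.assoc, ← ha, Category.assoc, hgen, ← Category.assoc (pullback.fst pP j), ← hb, Category.assoc, hgen]
    have : a ≫ m i = b ≫ m k := by
      refine pullback.hom_ext ?_ ?_
      · rw [Category.assoc, Category.assoc, hm, hm, reassoc_of% ha, reassoc_of% hb, pullback.condition]
      · simp [a, b, m]
    rw [reassoc_of% this]
  refine ⟨𝒰.glueMorphisms g hc, 𝒰.hom_ext _ _ fun i => by rw [𝒰.ι_glueMorphisms_assoc, hg], ?_⟩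
  refine Scheme.Cover.hom_ext (𝒰.pullback₁ (pullback.fst p j)) _ _ fun i => ?_
  let e : pullback (pullback.fst p j) (𝒰.f i) ⟶ pullback (𝒰.f i ≫ p) j :=
    pullback.lift (pullback.snd _ _) (pullback.fst _ _ ≫ pullback.snd p j) (by
      rw [← pullback.condition_assoc, Category.assoc, ← pullback.condition])
  have he : e ≫ m i = pullback.fst (pullback.fst p j) (𝒰.f i) := by
    refine pullback.hom_ext ?_ ?_
    · rw [Category.assoc, hm, pullback.lift_fst_assoc, pullback.condition]
    · simp [e, m]
  show pullback.fst (pullback.fst p j) (𝒰.f i) ≫ pullback.fst p j ≫ 𝒰.glueMorphisms g hc = pullback.fst (pullback.fst p j) (𝒰.f i) ≫ ψ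
  rw [pullback.condition_assoc, 𝒰.ι_glueMorphisms, ← he, Category.assoc, ← hgen, pullback.lift_fst_assoc]

/-- The Néron model of a finite etale scheme. -/
theorem exists_model :
    ∃ (N : Over (Spec (CommRingCat.of R))) (e : (Neron.genericFibre R).obj N ≅ Over.mk (strK R L)),
      Neron.IsNeronModelOf R N (Over.mk (strK R L)) e ∧ Etale N.hom ∧ LocallyQuasiFinite N.hom := by
  obtain ⟨hfin, hnorm⟩ := finite_and_normal R L
  haveI := hfin
  haveI : IsFinite (str R L) := (IsFinite.SpecMap_iff _).2 (RingHom.finite_algebraMap.2 hfin)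
  haveI : LocallyOfFinitePresentation (str R L) := UOpenLib.locallyOfFinitePresentation_of_isLocallyNoetherian _
  let π := str R L
  haveI : IsLocallyNoetherian (Spec (CommRingCat.of (B R L))) := LocallyOfFiniteType.isLocallyNoetherian π
  let W := π.smoothLocus
  have hTn := isNormalScheme_spec (B R L) hnorm
  let N : Over (Spec (CommRingCat.of R)) := Over.mk (W.ι ≫ π)
  let j := Neron.genPt R
  let a : Spec (CommRingCat.of L) ⟶ W.toScheme := IsOpenImmersion.lift W.ι (gen R L) (by
    rintro _ ⟨y, rfl⟩
    rw [Scheme.Opens.range_ι]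
    exact gen_mem_smoothLocus R L y)
  have ha : a ≫ W.ι = gen R L := IsOpenImmersion.lift_fac _ _ _
  let e₀ : pullback (W.ι ≫ π) j ≅ Spec (CommRingCat.of L) :=
    { hom := (isPullback_gen R L).lift (pullback.fst (W.ι ≫ π) j ≫ W.ι) (pullback.snd (W.ι ≫ π) j)
        (by rw [Category.assoc]; exact pullback.condition)
      inv := pullback.lift a (strK R L) (by rw [reassoc_of% ha]; exact (isPullback_gen R L).w)
      hom_inv_id := by
        refine pullback.hom_ext ?_ ?_
        · rw [← cancel_mono W.ι, Category.assoc, Category.assoc, pullback.lift_fst_assoc, ha, IsPullback.lift_fst,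
            Category.id_comp]
        · rw [Category.assoc, pullback.lift_snd, IsPullback.lift_snd, Category.id_comp]
      inv_hom_id := by
        refine (isPullback_gen R L).hom_ext ?_ ?_
        · rw [Category.assoc, IsPullback.lift_fst, pullback.lift_fst_assoc, ha, Category.id_comp]
        · rw [Category.assoc, IsPullback.lift_snd, pullback.lift_snd, Category.id_comp] }
  let e : (Neron.genericFibre R).obj N ≅ Over.mk (strK R L) := Over.isoMk e₀ ((isPullback_gen R L).lift_snd _ _ _)
  haveI hsm : Smooth (W.ι ≫ π) := Scheme.Hom.smoothLocus_eq_top_iff.1 (by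
    rw [← Scheme.Hom.preimage_smoothLocus_eq, eq_top_iff]
    rintro ⟨z, hz⟩ -
    exact hz)
  haveI : QuasiCompact (W.ι ≫ π) := inferInstance
  haveI : IsSeparated (W.ι ≫ π) := inferInstance
  haveI : LocallyQuasiFinite (W.ι ≫ π) := inferInstance
  haveI : Etale N.hom := (Groth.Agent.S4997.result (W.ι ≫ π)).2 ⟨inferInstance, inferInstance⟩
  refine ⟨N, e, ⟨hsm, ‹IsSeparated (W.ι ≫ π)›, inferInstance, ‹QuasiCompact (W.ι ≫ π)›, fun Y hY => ?_⟩,
    inferInstance, ‹LocallyQuasiFinite (W.ι ≫ π)›⟩
  haveI := hY
  have hb : Function.Bijective (fun g : Y ⟶ N => (Neron.genericFibre R).map g) := by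
    constructor
    · rw [NeronExtLib.injective_iff]
      intro f₁ f₂ h12
      exact Over.OverMorphism.ext (hom_ext_genPt R Y.hom (W.ι ≫ π) _ _ (Over.w f₁) (Over.w f₂) h12)
    rw [NeronExtLib.surjective_iff]
    intro ψ hψ
    obtain ⟨g, hg, hgg⟩ := exists_extend_scheme R L Y.hom (ψ ≫ W.ι) (by rw [Category.assoc]; exact hψ)
    haveI : LocallyOfFinitePresentation π := ‹_›
    let g' : Y.left ⟶ W.toScheme := IsOpenImmersion.lift W.ι g (by
      rintro _ ⟨z, rfl⟩
      rw [Scheme.Opens.range_ι]
      exact Groth.Agent.S13432.mem_smoothLocus hTn Y.hom π g hg z)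
    have hg' : g' ≫ W.ι = g := IsOpenImmersion.lift_fac _ _ _
    refine ⟨Over.homMk g' (show g' ≫ W.ι ≫ π = _ by rw [reassoc_of% hg', hg]), ?_⟩
    show pullback.fst Y.hom j ≫ g' = ψ
    rw [← cancel_mono W.ι, Category.assoc, hg', hgg]
  refine ⟨fun g₁ g₂ h => hb.1 ((cancel_mono e.hom).1 h), fun φ => ?_⟩
  obtain ⟨g, hg⟩ := hb.2 (φ ≫ e.inv)
  exact ⟨g, show (Neron.genericFibre R).map g ≫ e.hom = φ by rw [show (Neron.genericFibre R).map g = φ ≫ e.inv from hg, Category.assoc, e.inv_hom_id, Category.comp_id]⟩

end FinEtNeronLib
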